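import Mathlib.Algebra.Polynomial.Laurent
import Mathlib.Algebra.Polynomial.Splits
import Mathlib.GroupTheory.OrderOfElement
import Mathlib.SetTheory.Cardinal.Finite
import Mathlib.Tactic

/-! Finite groups of automorphisms of a twisted form of the punctured line. -/

set_option autoImplicit false

universe u

namespace Groth.Misc5Conic

open LaurentPolynomial

theorem exists_C_mul_T_of_isUnit {L : Type*} [Field L] {f : L[T;T⁻¹]} (hf : IsUnit f) :
    ∃ (l : L) (n : ℤ), l ≠ 0 ∧ f = C l * T n := by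
  obtain ⟨g, hg⟩ := hf.exists_right_inv
  obtain ⟨m, f', hf'⟩ := f.exists_T_pow
  obtain ⟨k, g', hg'⟩ := g.exists_T_pow
  have h : f' * g' = Polynomial.X ^ (m + k) := Polynomial.toLaurent_injective (by
    rw [map_mul, hf', hg', Polynomial.toLaurent_X_pow, Nat.cast_add, T_add]
    linear_combination (T (m : ℤ) * T (k : ℤ) : L[T;T⁻¹]) * hg)
  obtain ⟨i, -, hi⟩ := (dvd_prime_pow Polynomial.prime_X _).1 (Dvd.intro g' h)
  obtain ⟨w, hw⟩ := hi
  obtain ⟨l, hl, hlw⟩ := Polynomial.isUnit_iff.1 (w⁻¹).isUnit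
  have hf'' : f' = Polynomial.C l * Polynomial.X ^ i := by
    rw [hlw, ← hw, mul_comm f', Units.inv_mul_cancel_left]
  refine ⟨l, (i : ℤ) - m, hl.ne_zero, ?_⟩
  rw [T_sub, ← mul_assoc, ← Polynomial.toLaurent_C_mul_X_pow, ← hf'', hf',
    mul_T_assoc, add_neg_cancel, T_zero, mul_one]

theorem C_mul_T_inj {L : Type*} [Field L] {l l' : L} {n n' : ℤ} (hl : l ≠ 0)
    (h : C l * T n = C l' * T n') : n = n' ∧ l = l' := by
  have hn : n = n' := by
    by_contra hne
    have := congrArg (fun p => p.coeff n) h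
    simp [← single_eq_C_mul_T, Ne.symm hne, hl] at this
  subst hn
  refine ⟨rfl, ?_⟩
  simpa [← single_eq_C_mul_T] using congrArg (fun p => p.coeff n) h

theorem finite_aut_of_embedding {K : Type u} [Field K] {L : Type u} [Field L] (ι : K →+* L)
    (hK : ∀ n : ℕ, 0 < n → (Polynomial.X ^ n - 1 : Polynomial K).Splits)
    {A : Type u} [CommRing A] [SMul K A] (α β : L) (hab : α ≠ β) (hα : α ∉ ι.range) (a' b' : K)
    (hsum : ι a' = α + β) (hprod : ι b' = α * β)
    (ψ : A →+* L[T;T⁻¹]) (hinj : Function.Injective ψ) (hsmul : ∀ (k : K) z, ψ (k • z) = C (ι k) * ψ z)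
    (hev : ∀ z, eval₂ (RingHom.id L) 1 (ψ z) ∈ ι.range)
    (P Q : A) (hPα : ψ P + C α * ψ Q = T 1) (hPβ : ψ P + C β * ψ Q = T (-1))
    (hgen : ∀ Z : Subring A, (∀ (k : K) z, z ∈ Z → k • z ∈ Z) → P ∈ Z → Q ∈ Z → ∀ z, z ∈ Z)
    (G : Subgroup (A ≃+* A)) [Finite G] (hG : ∀ g ∈ G, ∀ (k : K) (z : A), g (k • z) = k • g z) :
    (∀ g ∈ G, g ^ 2 = 1) ∧ Nat.card G ≤ 4 := by
  classical
  have hab' : α - β ≠ 0 := sub_ne_zero.2 hab
  have hδ : C (1 / (α - β)) * (C α - C β) = (1 : L[T;T⁻¹]) := by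
    rw [← map_sub, ← map_mul, one_div_mul_cancel hab', map_one]
  let τ : G → L[T;T⁻¹] := fun g => ψ (g.1 P) + C α * ψ (g.1 Q)
  let τ' : G → L[T;T⁻¹] := fun g => ψ (g.1 P) + C β * ψ (g.1 Q)
  have hTT : (T 1 : L[T;T⁻¹]) * T (-1) = 1 := by rw [← T_add]; simp
  have hnorm : P ^ 2 + a' • (P * Q) + b' • Q ^ 2 = 1 := by
    apply hinj
    rw [map_add, map_add, map_pow, hsmul, hsmul, map_mul, map_pow, map_one, hsum, hprod, map_add, map_mul,
      ← hTT, ← hPα, ← hPβ]
    ring
  have hττ : ∀ g : G, τ g * τ' g = 1 := by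
    intro g
    have h := congrArg ψ (congrArg g.1 hnorm)
    simp only [map_add, map_pow, map_mul, map_one, hG g.1 g.2, hsmul, hsum, hprod] at h
    simp only [τ, τ']
    linear_combination h
  have hτu : ∀ g, IsUnit (τ g) := fun g => IsUnit.of_mul_eq_one _ (hττ g)
  let φ : G → (L[T;T⁻¹] →+* L[T;T⁻¹]) := fun g => eval₂ C (hτu g).unit
  have hφκ : ∀ g t, φ g (C t) = C t := fun g t => eval₂_C _ _ _
  have hφ : ∀ (g : G) z, ψ (g.1 z) = φ g (ψ z) := by
    intro g
    have hs1 : φ g (T 1) = τ g := by simp [φ]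
    have hs2 : φ g (T (-1)) = τ' g := by
      have h1 : φ g (T 1) * φ g (T (-1)) = 1 := by rw [← map_mul, hTT, map_one]
      apply (hτu g).mul_right_injective
      show τ g * _ = τ g * _
      rw [hττ]; rwa [hs1] at h1
    have e1 : φ g (ψ P) + C α * φ g (ψ Q) = ψ (g.1 P) + C α * ψ (g.1 Q) := by
      rw [← hφκ g α, ← map_mul, ← map_add, hPα, hs1, hφκ]
    have e2 : φ g (ψ P) + C β * φ g (ψ Q) = ψ (g.1 P) + C β * ψ (g.1 Q) := by
      rw [← hφκ g β, ← map_mul, ← map_add, hPβ, hs2, hφκ]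
    have hQ' : φ g (ψ Q) = ψ (g.1 Q) := by
      linear_combination C (1 / (α - β)) * e1 - C (1 / (α - β)) * e2 - (φ g (ψ Q) - ψ (g.1 Q)) * hδ
    have hP' : φ g (ψ P) = ψ (g.1 P) := by linear_combination e1 - C α * hQ'
    refine hgen (RingHom.eqLocus (ψ.comp g.1.toRingHom) ((φ g).comp ψ)) (fun k z hz => ?_) hP'.symm hQ'.symm
    show ψ (g.1 (k • z)) = φ g (ψ (k • z))
    rw [hG g.1 g.2, hsmul, hsmul, map_mul, hφκ]
    exact congrArg _ hz
  have hτinj : Function.Injective τ := by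
    intro g g' h
    have hφe : φ g = φ g' := by
      show eval₂ C (hτu g).unit = eval₂ C (hτu g').unit
      rw [show (hτu g).unit = (hτu g').unit from Units.ext h]
    exact Subtype.ext (RingEquiv.ext fun z => hinj (by rw [hφ, hφ, hφe]))
  have hcomp : ∀ g h : G, τ (g * h) = φ g (τ h) := by
    intro g h
    simp only [τ, map_add, map_mul, hφκ, ← hφ]
    rfl
  choose l n hl hln using fun g => exists_C_mul_T_of_isUnit (hτu g)
  obtain ⟨hn0, hl0⟩ : n 1 = 1 ∧ l 1 = 1 :=
    C_mul_T_inj (hl 1) ((hln 1).symm.trans (by rw [map_one, one_mul]; exact hPα))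
  have hTpow : ∀ (k m : ℤ), (((isUnit_T (R := L) k).unit ^ m : L[T;T⁻¹]ˣ) : L[T;T⁻¹]) = T (k * m) := by
    intro k m
    induction m using Int.induction_on with
    | zero => simp
    | succ m ih => rw [zpow_add_one, Units.val_mul, ih, mul_add, mul_one, T_add]; rfl
    | pred m ih =>
      rw [zpow_sub_one, Units.val_mul, ih, mul_sub, mul_one, T_sub]
      congr 1
      refine (isUnit_T k).unit.inv_eq_of_mul_eq_one_right ?_
      rw [IsUnit.unit_spec, ← T_add]; simp
  have hmul : ∀ g h : G, n (g * h) = n g * n h ∧ l (g * h) = l h * l g ^ n h := by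
    intro g h
    refine C_mul_T_inj (hl _) ?_
    have hUg : (hτu g).unit = Units.map (C : L →+* L[T;T⁻¹]).toMonoidHom (Units.mk0 (l g) (hl g)) *
        (isUnit_T (n g)).unit := Units.ext (by simp [hln g])
    have hTn : φ g (T (n h)) = (((hτu g).unit ^ n h : L[T;T⁻¹]ˣ) : L[T;T⁻¹]) := eval₂_T _ _ _
    rw [← hln, hcomp, hln h, map_mul, hφκ, hTn, hUg, mul_zpow, Units.val_mul, hTpow, ← mul_assoc]
    congr 1
    rw [← map_zpow, Units.coe_map]
    show C (l h) * C ((Units.mk0 (l g) (hl g) ^ n h : Lˣ) : L) = _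
    rw [Units.val_zpow_eq_zpow_val, Units.val_mk0, map_mul]
  have hn1 : ∀ g, n g = 1 ∨ n g = -1 := fun g => by
    have h1 := (hmul g g⁻¹).1
    rw [mul_inv_cancel, hn0] at h1
    exact Int.eq_one_or_neg_one_of_mul_eq_one h1.symm
  have htor : ∀ g, n g = 1 → l g = 1 ∨ l g = -1 := by
    intro g hg
    have hpow : ∀ m : ℕ, n (g ^ m) = 1 ∧ l (g ^ m) = l g ^ m := by
      intro m
      induction m with
      | zero => simpa using And.intro hn0 hl0
      | succ m ih =>
        rw [pow_succ, (hmul _ _).1, (hmul _ _).2, ih.1, ih.2, hg, pow_succ]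
        simp [mul_comm]
    have hm := (hpow (orderOf g)).2
    rw [pow_orderOf_eq_one, hl0] at hm
    have hne : (Polynomial.X ^ orderOf g - 1 : Polynomial K) ≠ 0 := by
      simpa using Polynomial.X_pow_sub_C_ne_zero (orderOf_pos g) (1 : K)
    obtain ⟨k, hk⟩ := (hK (orderOf g) (orderOf_pos g)).mem_range_of_isRoot hne (i := ι) (x := l g)
      (by simp [← hm])
    let ev1 : L[T;T⁻¹] →+* L := eval₂ (RingHom.id L) 1
    have hevC : ∀ t, ev1 (C t) = t := fun t => eval₂_C _ _ _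
    have e1 : ev1 (τ g) = l g := by rw [hln g, map_mul, hevC]; simp [ev1]
    have e2 : ev1 (τ' g) * l g = 1 := by rw [← e1, ← map_mul, mul_comm, hττ, map_one]
    obtain ⟨p₁, hp₁⟩ := hev (g.1 P)
    obtain ⟨p₂, hp₂⟩ := hev (g.1 Q)
    have e3 : ev1 (τ g) = ι p₁ + α * ι p₂ := by rw [hp₁, hp₂]; simp only [τ, map_add, map_mul, hevC]; rfl
    have e4 : ev1 (τ' g) = ι p₁ + β * ι p₂ := by rw [hp₁, hp₂]; simp only [τ', map_add, map_mul, hevC]; rfl
    have hp : ι p₂ = 0 := by
      by_contra hne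
      refine hα ⟨(k - p₁) / p₂, ?_⟩
      rw [map_div₀, map_sub, hk, ← e1, e3, add_sub_cancel_left, mul_div_cancel_right₀ _ hne]
    rw [hp] at e3 e4
    rw [e4, mul_zero, ← mul_zero α, ← e3, e1] at e2
    exact mul_self_eq_one_iff.1 e2
  have hsq : ∀ g : G, g * g = 1 := by
    intro g
    refine hτinj ?_
    rw [hln, hln, (hmul g g).1, (hmul g g).2, hn0, hl0]
    rcases hn1 g with h | h
    · rcases htor g h with h' | h' <;> simp [h, h']
    · simp [h, hl g]
  refine ⟨fun g hg => by rw [pow_two]; exact congrArg Subtype.val (hsq ⟨g, hg⟩), ?_⟩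
  haveI := Fintype.ofFinite G
  have htc : (Finset.univ.filter fun g : G => n g = 1).card ≤ 2 := by
    refine (Finset.card_le_card_of_injOn l (t := ({1, -1} : Finset L)) (fun g hg => ?_) ?_).trans
      Finset.card_le_two
    · simpa using htor g (Finset.mem_filter.1 hg).2
    · intro g hg g' hg' h
      refine hτinj ?_
      rw [hln, hln, (Finset.mem_filter.1 hg).2, (Finset.mem_filter.1 hg').2, h]
  have hrc : (Finset.univ.filter fun g : G => n g = -1).card ≤ 2 := by
    rcases (Finset.univ.filter fun g : G => n g = -1).eq_empty_or_nonempty with h | ⟨r, hr⟩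
    · simp [h]
    · refine (Finset.card_le_card_of_injOn (fun g => r * g) (fun g hg => ?_)
        fun g _ g' _ h => mul_left_cancel h).trans htc
      simp only [Finset.coe_filter, Finset.mem_univ, true_and, Set.mem_ofPred_eq] at hg ⊢
      rw [(hmul r g).1, hg, (Finset.mem_filter.1 hr).2]; rfl
  rw [Nat.card_eq_fintype_card, ← Finset.card_univ,
    ← Finset.card_filter_add_card_filter_not (fun g : G => n g = 1)]
  have hsub : (Finset.univ.filter fun g : G => ¬ n g = 1) ⊆ Finset.univ.filter fun g : G => n g = -1 :=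
    fun g hg => by simpa using (hn1 g).resolve_left (Finset.mem_filter.1 hg).2
  have := (Finset.card_le_card hsub).trans hrc
  omega

end Groth.Misc5Conic
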