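import Groth.Agent.Misc5Conic.Chart
import Groth.Agent.Misc5Conic.Torus

/-! Automorphisms of the complement of a conjugate pair of points of the projective line. -/

set_option autoImplicit false
set_option backward.isDefEq.respectTransparency false

universe u

open MvPolynomial

attribute [local instance] MvPolynomial.gradedAlgebra

namespace Groth.Misc5Conic

variable {K : Type u} [Field K]

local notation "𝒜" => MvPolynomial.homogeneousSubmodule (Fin 2) K

theorem monomial_mem (i j d : ℕ) (c : K) (h : i + j = d) : monomial (ex i j) c ∈ 𝒜 d :=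
  (mem_homogeneousSubmodule _ _).2 (isHomogeneous_monomial _ (by rw [degree_eq]; simp [ex, h]))

theorem eq_three {q : MvPolynomial (Fin 2) K} (hq : q.IsHomogeneous 2) :
    q = monomial (ex 2 0) (q.coeff (ex 2 0)) + monomial (ex 1 1) (q.coeff (ex 1 1)) +
      monomial (ex 0 2) (q.coeff (ex 0 2)) := by
  ext m
  by_cases hm : m 0 + m 1 = 2
  · obtain ⟨h0, h1⟩ | ⟨h0, h1⟩ | ⟨h0, h1⟩ : (m 0 = 2 ∧ m 1 = 0) ∨ (m 0 = 1 ∧ m 1 = 1) ∨ (m 0 = 0 ∧ m 1 = 2) := by
      omega
    all_goals
      rw [eq_ex m, h0, h1]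
      simp [coeff_monomial, ex, Finsupp.ext_iff, Fin.forall_fin_two]
  · rw [hq.coeff_eq_zero (by rw [degree_eq]; exact hm)]
    have : ∀ i j, i + j = 2 → ex i j ≠ m := fun i j h e => hm (by rw [← e]; simp [ex, h])
    simp [coeff_monomial, this 2 0 rfl, this 1 1 rfl, this 0 2 rfl]

theorem quad_coeff_ne {a b c : K} (hirr : Irreducible
    (monomial (ex 2 0) a + monomial (ex 1 1) b + monomial (ex 0 2) c : MvPolynomial (Fin 2) K)) :
    a ≠ 0 ∧ ∀ r : K, a * r ^ 2 + b * r + c ≠ 0 := by
  have hmon : ∀ i j (t : K), (monomial (ex i j) t : MvPolynomial (Fin 2) K) = C t * X 0 ^ i * X 1 ^ j := fun i j t => by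
    rw [monomial_eq, Finsupp.prod_fintype _ _ (fun _ => pow_zero _), Fin.prod_univ_two]
    simp [ex, mul_assoc]
  have hnu : ∀ u v : K, ¬ IsUnit (C u * X 0 + C v * X 1 : MvPolynomial (Fin 2) K) := fun u v h => by
    simpa using h.map (eval (0 : Fin 2 → K))
  refine ⟨fun ha => ?_, fun r hr => ?_⟩
  · have e : (monomial (ex 2 0) a + monomial (ex 1 1) b + monomial (ex 0 2) c : MvPolynomial (Fin 2) K) =
        (C 0 * X 0 + C 1 * X 1) * (C b * X 0 + C c * X 1) := by
      simp only [hmon, ha, map_zero, map_one]; ring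
    exact (hirr.isUnit_or_isUnit e).elim (hnu _ _) (hnu _ _)
  · have e : (monomial (ex 2 0) a + monomial (ex 1 1) b + monomial (ex 0 2) c : MvPolynomial (Fin 2) K) =
        (C 1 * X 0 + C (-r) * X 1) * (C a * X 0 + C (a * r + b) * X 1) := by
      have hc : c = -r * (a * r + b) := by linear_combination hr
      simp only [hmon, hc, map_one, map_add, map_mul, map_neg]; ring
    exact (hirr.isUnit_or_isUnit e).elim (hnu _ _) (hnu _ _)

variable {q : MvPolynomial (Fin 2) K}

set_option maxHeartbeats 1000000 in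
theorem finite_aut (hK : ∀ n : ℕ, 0 < n → (Polynomial.X ^ n - 1 : Polynomial K).Splits) (hq : q ∈ 𝒜 2)
    (hirr : Irreducible q)
    (hdisc : (q.coeff (ex 1 1)) ^ 2 - 4 * q.coeff (ex 2 0) * q.coeff (ex 0 2) ≠ 0)
    (G : Subgroup (HomogeneousLocalization.Away 𝒜 q ≃+* HomogeneousLocalization.Away 𝒜 q)) [Finite G]
    (hG : ∀ g ∈ G, ∀ (k : K) (z : HomogeneousLocalization.Away 𝒜 q), g (k • z) = k • g z) :
    (∀ g ∈ G, g ^ 2 = 1) ∧ Nat.card G ≤ 4 := by
  classical
  obtain ⟨a, b, c, hqdef, hdisc⟩ : ∃ a b c : K,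
      q = monomial (ex 2 0) a + monomial (ex 1 1) b + monomial (ex 0 2) c ∧ b ^ 2 - 4 * a * c ≠ 0 :=
    ⟨_, _, _, eq_three ((mem_homogeneousSubmodule _ _).1 hq), hdisc⟩
  obtain ⟨ha, hroot⟩ := quad_coeff_ne (show Irreducible _ from hqdef ▸ hirr)
  obtain ⟨L, _, _, ι, α, hα⟩ : ∃ (L : Type u) (_ : Field L) (_ : Infinite L) (ι : K →+* L) (α : L),
      ι a * α ^ 2 + ι b * α + ι c = 0 := by
    obtain ⟨α, hα⟩ := IsAlgClosed.exists_root
      (Polynomial.C (algebraMap K (AlgebraicClosure K) a) * Polynomial.X ^ 2 +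
        Polynomial.C (algebraMap K (AlgebraicClosure K) b) * Polynomial.X +
        Polynomial.C (algebraMap K (AlgebraicClosure K) c))
      (by rw [Polynomial.degree_quadratic ((map_ne_zero _).2 ha)]; decide)
    exact ⟨AlgebraicClosure K, inferInstance, inferInstance, algebraMap K _, α, by simpa using hα⟩
  have hιa : ι a ≠ 0 := (map_ne_zero ι).2 ha
  have hαK : α ∉ ι.range := by
    rintro ⟨r, rfl⟩
    refine hroot r (ι.injective ?_)
    rw [map_zero, ← hα]; simp
  let β : L := -(ι b / ι a) - α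
  have hb : ι b = -(ι a * (α + β)) := by
    have := mul_div_cancel₀ (ι b) hιa
    simp only [β]; linear_combination -this
  have hc : ι c = ι a * α * β := by
    have := mul_div_cancel₀ (ι b) hιa
    simp only [β]; linear_combination hα + α * this
  have hab : α ≠ β := by
    intro e
    refine hdisc (ι.injective ?_)
    rw [map_zero]; simp only [map_sub, map_mul, map_pow, map_ofNat, hb, hc, e]; ring
  have hab' : α - β ≠ 0 := sub_ne_zero.2 hab
  let κ : L →+* LaurentPolynomial L := LaurentPolynomial.C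
  let s : LaurentPolynomial L := LaurentPolynomial.T 1
  let x : LaurentPolynomial L := κ (α / (α - β)) - κ (β / (α - β)) * s
  let y : LaurentPolynomial L := κ (1 / (α - β)) - κ (1 / (α - β)) * s
  have hδ : κ (1 / (α - β)) * (κ α - κ β) = 1 := by
    rw [← map_sub, ← map_mul, one_div_mul_cancel hab', map_one]
  have hxα : x - κ α * y = s := by
    simp only [x, y, div_eq_mul_one_div α, div_eq_mul_one_div β, map_mul]
    linear_combination s * hδ
  have hxβ : x - κ β * y = 1 := by
    simp only [x, y, div_eq_mul_one_div α, div_eq_mul_one_div β, map_mul]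
    linear_combination hδ
  let e : MvPolynomial (Fin 2) K →+* LaurentPolynomial L := eval₂Hom (κ.comp ι) ![x, y]
  have he : ∀ i j (t : K), e (monomial (ex i j) t) = κ (ι t) * (x ^ i * y ^ j) := fun i j t => by
    show eval₂ _ _ _ = _
    rw [eval₂_monomial, Finsupp.prod_fintype _ _ (fun _ => pow_zero _), Fin.prod_univ_two]
    simp [ex]
  have heq : e q = κ (ι a) * s := by
    rw [hqdef, map_add, map_add, he, he, he, hb, hc]
    simp only [map_neg, map_mul, map_add]
    linear_combination (κ (ι a) * (x - κ β * y)) * hxα + (κ (ι a) * s) * hxβ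
  have hu : IsUnit (e q) := by
    rw [heq]; exact ((isUnit_iff_ne_zero.2 hιa).map κ).mul (LaurentPolynomial.isUnit_T 1)
  let A := HomogeneousLocalization.Away 𝒜 q
  let ψ : A →+* LaurentPolynomial L := (Localization.awayLift e q hu).comp (algebraMap A (Localization (Submonoid.powers q)))
  have hψ : ∀ n f (hf : f ∈ 𝒜 (n • 2)),
      ψ (HomogeneousLocalization.Away.mk 𝒜 hq n f hf) * e q ^ n = e f := fun n f hf => by
    show Localization.awayLift e q hu (HomogeneousLocalization.Away.mk 𝒜 hq n f hf).val * _ = _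
    rw [HomogeneousLocalization.Away.val_mk, Localization.mk_eq_mk', ← map_pow]
    have h := congrArg (Localization.awayLift e q hu) (IsLocalization.mk'_spec (Localization (Submonoid.powers q)) f
      (⟨q ^ n, n, rfl⟩ : Submonoid.powers q))
    rw [map_mul] at h
    have hl : ∀ g, Localization.awayLift e q hu (algebraMap _ (Localization (Submonoid.powers q)) g) = e g :=
      fun g => IsLocalization.Away.lift_eq q hu g
    rw [hl, hl] at h
    exact h
  have hψsmul : ∀ (k : K) z, ψ (k • z) = κ (ι k) * ψ z := by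
    intro k z
    obtain ⟨n, f, hf, rfl⟩ := HomogeneousLocalization.Away.mk_surjective 𝒜 hq z
    rw [← mk_smul hq n k f hf]
    apply (hu.pow n).mul_left_injective
    simp only [hψ, mul_assoc, smul_eq_C_mul, map_mul]
    simp [e]
  have hinj : Function.Injective ψ := by
    refine (injective_iff_map_eq_zero _).2 fun z hz => ?_
    obtain ⟨n, f, hf, rfl⟩ := HomogeneousLocalization.Away.mk_surjective 𝒜 hq z
    have hef : e f = 0 := by rw [← hψ n f hf, hz, zero_mul]
    obtain rfl : f = 0 := eq_zero_of_eval₂ ι hab ((mem_homogeneousSubmodule _ _).1 hf) fun t ht => by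
      have h := congrArg (LaurentPolynomial.eval₂ (RingHom.id L) (Units.mk0 t ht)) hef
      rw [map_zero] at h
      refine Eq.trans ?_ h
      show _ = LaurentPolynomial.eval₂ (RingHom.id L) (Units.mk0 t ht) (eval₂ _ _ f)
      rw [eval₂_comp_left]
      congr 1
      · ext k; simp [κ, LaurentPolynomial.eval₂_C]
      · funext i
        fin_cases i <;> simp [x, y, κ, s, LaurentPolynomial.eval₂_C, LaurentPolynomial.eval₂_T] <;> field_simp
    apply HomogeneousLocalization.val_injective
    simp [Localization.mk_zero]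
  let ev1 : LaurentPolynomial L →+* L := LaurentPolynomial.eval₂ (RingHom.id L) 1
  have hev : ∀ z, ev1 (ψ z) ∈ ι.range := by
    intro z
    obtain ⟨n, f, hf, rfl⟩ := HomogeneousLocalization.Away.mk_surjective 𝒜 hq z
    have h1 : ∀ g, ev1 (e g) = ι (eval ![1, 0] g) := fun g => by
      show LaurentPolynomial.eval₂ _ _ (eval₂ _ _ g) = ι (eval₂ _ _ g)
      rw [eval₂_comp_left, eval₂_comp_left]
      congr 1
      · ext k; simp [κ, LaurentPolynomial.eval₂_C]
      · funext i
        fin_cases i <;> simp [x, y, κ, s, LaurentPolynomial.eval₂_C, LaurentPolynomial.eval₂_T, ← sub_div, div_self hab']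
    have h2 := congrArg ev1 (hψ n f hf)
    have h3 : ev1 (e q) = ι a := by rw [heq]; simp [ev1, κ, s, LaurentPolynomial.eval₂_C, LaurentPolynomial.eval₂_T]
    rw [map_mul, map_pow, h3, h1] at h2
    exact ⟨eval ![1, 0] f / a ^ n, by rw [map_div₀, map_pow, ← h2, mul_div_cancel_right₀ _ (pow_ne_zero _ hιa)]⟩
  have hmem1 : ∀ i j (t : K), i + j = 2 → monomial (ex i j) t ∈ 𝒜 (1 • 2) := fun i j t h => by
    rw [one_smul]; exact monomial_mem i j 2 t h
  let P : A := HomogeneousLocalization.Away.mk 𝒜 hq 1 (monomial (ex 2 0) a + monomial (ex 0 2) (-c))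
    (add_mem (hmem1 2 0 a rfl) (hmem1 0 2 (-c) rfl))
  let Q : A := HomogeneousLocalization.Away.mk 𝒜 hq 1 (monomial (ex 1 1) (-(2 * a)) + monomial (ex 0 2) (-b))
    (add_mem (hmem1 1 1 _ rfl) (hmem1 0 2 (-b) rfl))
  have hcancel : ∀ u v : LaurentPolynomial L, u * e q = v * e q → u = v := fun u v h => hu.mul_left_injective h
  have hP : ψ P * e q = e (monomial (ex 2 0) a + monomial (ex 0 2) (-c)) := by simpa [P] using hψ 1 _ (add_mem (hmem1 2 0 a rfl) (hmem1 0 2 (-c) rfl))
  have hQ : ψ Q * e q = e (monomial (ex 1 1) (-(2 * a)) + monomial (ex 0 2) (-b)) := by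
    simpa [Q] using hψ 1 _ (add_mem (hmem1 1 1 (-(2 * a)) rfl) (hmem1 0 2 (-b) rfl))
  have hPα : ψ P + κ α * ψ Q = s := by
    apply hcancel
    rw [add_mul, mul_assoc, hP, hQ, heq, map_add, map_add, he, he, he, he]
    simp only [map_neg, map_mul, map_ofNat, hb, hc]
    simp only [map_neg, map_mul, map_add, map_ofNat]
    linear_combination (κ (ι a) * (x - κ α * y + s)) * hxα
  have hPβ : ψ P + κ β * ψ Q = LaurentPolynomial.T (-1) := by
    apply hcancel
    rw [add_mul, mul_assoc, hP, hQ, heq, map_add, map_add, he, he, he, he]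
    simp only [map_neg, map_mul, map_ofNat, hb, hc]
    have hTs : (LaurentPolynomial.T (-1) : LaurentPolynomial L) * s = 1 := by
      rw [← LaurentPolynomial.T_add]; simp
    simp only [map_neg, map_mul, map_add, map_ofNat]
    linear_combination (κ (ι a) * (x - κ β * y + 1)) * hxβ - κ (ι a) * hTs
  refine finite_aut_of_embedding ι hK α β hab hαK (-(b / a)) (c / a) ?_ ?_ ψ hinj hψsmul hev P Q hPα hPβ ?_ G hG
  · rw [map_neg, map_div₀, hb, neg_div, neg_neg, mul_div_cancel_left₀ _ hιa]
  · rw [map_div₀, hc, mul_assoc, mul_div_cancel_left₀ _ hιa]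
  · intro Z hsm hPZ hQZ
    refine eq_top_of_quadratic hq Z hsm fun i j h => ?_
    have hd : i + j = 2 := by
      have := (mem_homogeneousSubmodule _ _).1 h (d := ex i j) (by simp [coeff_monomial])
      rw [show (1 : Fin 2 → ℕ) = fun _ => 1 from rfl, ← Finsupp.degree_eq_weight_one] at this
      simpa [degree_eq, ex] using this
    have key : ∀ (u v w : K), (∀ (W : A), ψ W * e q = e (monomial (ex i j) 1) →
        (b ^ 2 - 4 * a * c) • W = u • (1 : A) + v • P + w • Q) →
        HomogeneousLocalization.Away.mk 𝒜 hq 1 (monomial (ex i j) 1) h ∈ Z := by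
      intro u v w H
      have h1 := H _ (by simpa using hψ 1 _ h)
      rw [show HomogeneousLocalization.Away.mk 𝒜 hq 1 (monomial (ex i j) 1) h =
        (b ^ 2 - 4 * a * c)⁻¹ • (u • (1 : A) + v • P + w • Q) from hinj (by
          rw [← h1, hψsmul, hψsmul, ← mul_assoc, ← map_mul, ← map_mul, inv_mul_cancel₀ hdisc,
            show κ (ι 1) = 1 by rw [map_one, map_one], one_mul])]
      exact hsm _ _ (Z.add_mem (Z.add_mem (hsm _ _ Z.one_mem) (hsm _ _ hPZ)) (hsm _ _ hQZ))
    obtain ⟨rfl, rfl⟩ | ⟨rfl, rfl⟩ | ⟨rfl, rfl⟩ : (i = 2 ∧ j = 0) ∨ (i = 1 ∧ j = 1) ∨ (i = 0 ∧ j = 2) := by omega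
    · refine key (-2 * c) ((b ^ 2 - 4 * a * c) / a + 2 * c) (-(b * c) / a) fun W hW => hinj (hcancel _ _ ?_)
      simp only [map_add, hψsmul, map_one, add_mul, mul_assoc, hW, hP, hQ, he, one_mul]
      rw [hqdef, map_add, map_add, he, he, he]
      simp only [map_mul, map_sub, map_add, map_neg, map_pow, map_ofNat, map_div₀, map_one, hb, hc]
      field_simp
      simp only [map_mul, map_sub, map_add, map_neg, map_pow, map_ofNat, map_one]
      ring
    · refine key b (-b) (2 * c) fun W hW => hinj (hcancel _ _ ?_)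
      simp only [map_add, hψsmul, map_one, add_mul, mul_assoc, hW, hP, hQ, he, one_mul]
      rw [hqdef, map_add, map_add, he, he, he]
      simp only [map_mul, map_sub, map_add, map_neg, map_pow, map_ofNat, map_one, hb, hc]
      ring
    · refine key (-2 * a) (2 * a) (-b) fun W hW => hinj (hcancel _ _ ?_)
      simp only [map_add, hψsmul, map_one, add_mul, mul_assoc, hW, hP, hQ, he, one_mul]
      rw [hqdef, map_add, map_add, he, he, he]
      simp only [map_mul, map_sub, map_add, map_neg, map_pow, map_ofNat, map_one, hb, hc]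
      ring

end Groth.Misc5Conic
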