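import Mathlib.RingTheory.GradedAlgebra.HomogeneousLocalization
import Mathlib.RingTheory.MvPolynomial.Homogeneous
import Mathlib.Algebra.Polynomial.Laurent
import Mathlib.Algebra.Polynomial.Splits
import Mathlib.Algebra.MvPolynomial.Funext
import Mathlib.FieldTheory.IsAlgClosed.AlgebraicClosure
import Mathlib.RingTheory.Localization.Away.Basic
import Mathlib.Tactic

/-! The coordinate ring of the complement of a conjugate pair of points of the projective line
inside the Laurent polynomials. -/

set_option autoImplicit false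
set_option backward.isDefEq.respectTransparency false

universe u

open MvPolynomial

attribute [local instance] MvPolynomial.gradedAlgebra

namespace Groth.Misc5Conic

variable {K : Type u} [Field K]

local notation "𝒜" => MvPolynomial.homogeneousSubmodule (Fin 2) K

/-- exponent vector `(i, j)` -/
noncomputable def ex (i j : ℕ) : Fin 2 →₀ ℕ := Finsupp.single 0 i + Finsupp.single 1 j

theorem eq_ex (m : Fin 2 →₀ ℕ) : m = ex (m 0) (m 1) := by
  ext i; fin_cases i <;> simp [ex]

theorem degree_eq (m : Fin 2 →₀ ℕ) : m.degree = m 0 + m 1 := by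
  rw [Finsupp.degree_eq_sum, Fin.sum_univ_two]

theorem eval₂_scale {L : Type*} [CommSemiring L] (ι : K →+* L) {f : MvPolynomial (Fin 2) K} {d : ℕ}
    (hf : f.IsHomogeneous d) (c : L) (x : Fin 2 → L) :
    eval₂ ι (fun i => c * x i) f = c ^ d * eval₂ ι x f := by
  rw [eval₂_eq', eval₂_eq', Finset.mul_sum]
  refine Finset.sum_congr rfl fun m hm => ?_
  have hd : m 0 + m 1 = d := by
    rw [← degree_eq]
    have := hf (mem_support_iff.1 hm)
    rwa [Finsupp.degree_eq_weight_one]
  simp only [Fin.prod_univ_two, mul_pow, ← hd, pow_add]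
  ring

/-- a homogeneous binary form over `K` vanishing on a cofinite set of a parametrised affine line vanishes -/
theorem eq_zero_of_eval₂ {L : Type*} [Field L] [Infinite L] (ι : K →+* L) {α β : L} (hab : α ≠ β)
    {f : MvPolynomial (Fin 2) K} {d : ℕ} (hf : f.IsHomogeneous d)
    (h : ∀ t : L, t ≠ 0 → eval₂ ι ![(α - β * t) / (α - β), (1 - t) / (α - β)] f = 0) : f = 0 := by
  have hr : ∀ r : L, r ≠ α → r ≠ β → eval₂ ι ![r, 1] f = 0 := by
    intro r hra hrb
    let t := (r - α) / (r - β)
    have hrb' : r - β ≠ 0 := sub_ne_zero.2 hrb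
    have hab' : α - β ≠ 0 := sub_ne_zero.2 hab
    have h1 := h t (div_ne_zero (sub_ne_zero.2 hra) hrb')
    have hv : (![(α - β * t) / (α - β), (1 - t) / (α - β)] : Fin 2 → L) =
        fun i => (1 / (r - β)) * (![r, 1] : Fin 2 → L) i := by
      funext i
      fin_cases i <;> simp only [t, Matrix.cons_val_zero, Matrix.cons_val_one, Fin.zero_eta, Fin.mk_one] <;>
        field_simp <;> ring
    rw [hv, eval₂_scale ι hf] at h1
    exact (mul_eq_zero.1 h1).resolve_left (pow_ne_zero _ (one_div_ne_zero hrb'))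
  let M := MvPolynomial.map ι f
  have hM : ∀ x, eval x M = eval₂ ι x f := fun x => (eval₂_eq_eval_map ι x f).symm
  have hzero : M * (X 1 * (X 0 - C α * X 1) * (X 0 - C β * X 1)) = 0 := by
    refine MvPolynomial.funext fun x => ?_
    simp only [map_mul, map_sub, eval_X, eval_C, map_zero, hM]
    by_contra hne
    obtain ⟨hf0, hne'⟩ := mul_ne_zero_iff.1 hne
    obtain ⟨h12, h3⟩ := mul_ne_zero_iff.1 hne'
    obtain ⟨h1, h2⟩ := mul_ne_zero_iff.1 h12
    apply hf0
    have hx : x = fun i => x 1 * (![x 0 / x 1, 1] : Fin 2 → L) i := by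
      funext i; fin_cases i
      · simp only [Fin.zero_eta, Matrix.cons_val_zero]; field_simp
      · simp
    rw [hx, eval₂_scale ι hf, hr _ (fun e => h2 ?_) (fun e => h3 ?_), mul_zero] <;>
      · rw [← e]; field_simp; ring
  have hne : (X 1 * (X 0 - C α * X 1) * (X 0 - C β * X 1) : MvPolynomial (Fin 2) L) ≠ 0 := by
    have hlin : ∀ c : L, (X 0 - C c * X 1 : MvPolynomial (Fin 2) L) ≠ 0 := fun c e => by
      simpa using congrArg (eval ![(1 : L), 0]) e
    exact mul_ne_zero (mul_ne_zero (X_ne_zero 1) (hlin α)) (hlin β)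
  exact map_injective ι ι.injective (((mul_eq_zero.1 hzero).resolve_right hne).trans (map_zero _).symm)

theorem mk_add {q : MvPolynomial (Fin 2) K} (hq : q ∈ 𝒜 2) (n : ℕ) (f g : MvPolynomial (Fin 2) K)
    (hf : f ∈ 𝒜 (n • 2)) (hg : g ∈ 𝒜 (n • 2)) :
    HomogeneousLocalization.Away.mk 𝒜 hq n (f + g) (add_mem hf hg) =
      HomogeneousLocalization.Away.mk 𝒜 hq n f hf + HomogeneousLocalization.Away.mk 𝒜 hq n g hg := by
  apply HomogeneousLocalization.val_injective
  simp only [HomogeneousLocalization.val_add, HomogeneousLocalization.Away.val_mk, Localization.add_mk_self]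

theorem mk_mul {q : MvPolynomial (Fin 2) K} (hq : q ∈ 𝒜 2) (n m : ℕ) (f g : MvPolynomial (Fin 2) K)
    (hf : f ∈ 𝒜 (n • 2)) (hg : g ∈ 𝒜 (m • 2)) (h : f * g ∈ 𝒜 ((n + m) • 2)) :
    HomogeneousLocalization.Away.mk 𝒜 hq (n + m) (f * g) h =
      HomogeneousLocalization.Away.mk 𝒜 hq n f hf * HomogeneousLocalization.Away.mk 𝒜 hq m g hg := by
  apply HomogeneousLocalization.val_injective
  simp only [HomogeneousLocalization.val_mul, HomogeneousLocalization.Away.val_mk, Localization.mk_mul,
    Submonoid.mk_mul_mk, pow_add]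

theorem mk_smul {q : MvPolynomial (Fin 2) K} (hq : q ∈ 𝒜 2) (n : ℕ) (c : K) (f : MvPolynomial (Fin 2) K)
    (hf : f ∈ 𝒜 (n • 2)) :
    HomogeneousLocalization.Away.mk 𝒜 hq n (c • f) (Submodule.smul_mem _ c hf) =
      c • HomogeneousLocalization.Away.mk 𝒜 hq n f hf := by
  apply HomogeneousLocalization.val_injective
  simp only [HomogeneousLocalization.val_smul, HomogeneousLocalization.Away.val_mk, Localization.smul_mk]

theorem mk_one_eq {q : MvPolynomial (Fin 2) K} (hq : q ∈ 𝒜 2) (h : q ∈ 𝒜 (1 • 2)) :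
    HomogeneousLocalization.Away.mk 𝒜 hq 1 q h = 1 := by
  apply HomogeneousLocalization.val_injective
  rw [HomogeneousLocalization.val_one, HomogeneousLocalization.Away.val_mk]
  convert Localization.mk_self (⟨q, ⟨1, pow_one q⟩⟩ : Submonoid.powers q) using 2
  exact Subtype.ext (pow_one q)

/-- a subring of the coordinate ring stable under scalars and containing the three quadratic fractions is everything -/
theorem eq_top_of_quadratic {q : MvPolynomial (Fin 2) K} (hq : q ∈ 𝒜 2)
    (Z : Subring (HomogeneousLocalization.Away 𝒜 q)) (hsmul : ∀ (c : K) z, z ∈ Z → c • z ∈ Z)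
    (h2 : ∀ i j (h : monomial (ex i j) (1 : K) ∈ 𝒜 (1 • 2)),
      HomogeneousLocalization.Away.mk 𝒜 hq 1 (monomial (ex i j) 1) h ∈ Z) : ∀ z, z ∈ Z := by
  have hdeg : ∀ i j d, i + j = d → monomial (ex i j) (1 : K) ∈ 𝒜 d := fun i j d h => by
    refine (mem_homogeneousSubmodule _ _).2 (isHomogeneous_monomial _ ?_)
    rw [degree_eq]; simp [ex, h]
  have hmono : ∀ n i j (h : monomial (ex i j) (1 : K) ∈ 𝒜 (n • 2)), i + j = n * 2 →
      HomogeneousLocalization.Away.mk 𝒜 hq n (monomial (ex i j) 1) h ∈ Z := by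
    intro n
    induction n with
    | zero =>
      intro i j h hij
      obtain ⟨rfl, rfl⟩ : i = 0 ∧ j = 0 := by omega
      convert Z.one_mem
      apply HomogeneousLocalization.val_injective
      rw [HomogeneousLocalization.val_one, HomogeneousLocalization.Away.val_mk,
        show monomial (ex 0 0) (1 : K) = 1 by simp [ex]]
      rw [← Localization.mk_one]
      congr 1
    | succ n ih =>
      intro i j h hij
      obtain ⟨i₁, j₁, hi, hj, h12⟩ : ∃ i₁ j₁, i₁ ≤ i ∧ j₁ ≤ j ∧ i₁ + j₁ = 2 :=
        ⟨min i 2, 2 - min i 2, min_le_left _ _, by omega, by omega⟩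
      have hm1 := hdeg i₁ j₁ (1 • 2) (by simpa using h12)
      have hm2 := hdeg (i - i₁) (j - j₁) (n • 2) (by simp; omega)
      have e : monomial (ex i j) (1 : K) = monomial (ex (i - i₁) (j - j₁)) 1 * monomial (ex i₁ j₁) 1 := by
        rw [monomial_mul, one_mul]
        congr 2
        ext t; fin_cases t <;> simp [ex] <;> omega
      have h' : monomial (ex (i - i₁) (j - j₁)) (1 : K) * monomial (ex i₁ j₁) 1 ∈ 𝒜 ((n + 1) • 2) := e ▸ h
      simp only [e]
      rw [mk_mul hq n 1 _ _ hm2 hm1]
      exact Z.mul_mem (ih _ _ hm2 (by omega)) (h2 _ _ hm1)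
  intro z
  obtain ⟨n, f, hf, rfl⟩ := HomogeneousLocalization.Away.mk_surjective 𝒜 hq z
  suffices ∀ s : Finset (Fin 2 →₀ ℕ), (∀ m ∈ s, m 0 + m 1 = n * 2) →
      ∀ h : ∑ m ∈ s, monomial m (coeff m f) ∈ 𝒜 (n • 2),
      HomogeneousLocalization.Away.mk 𝒜 hq n (∑ m ∈ s, monomial m (coeff m f)) h ∈ Z by
    have h' := this f.support (fun m hm => by
      rw [← degree_eq, ← smul_eq_mul n 2]
      have := (mem_homogeneousSubmodule _ _).1 hf (mem_support_iff.1 hm)
      rwa [Finsupp.degree_eq_weight_one]) (by rwa [support_sum_monomial_coeff])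
    simpa only [support_sum_monomial_coeff] using h'
  intro s
  induction s using Finset.induction_on with
  | empty =>
    intro _ h
    convert Z.zero_mem
    apply HomogeneousLocalization.val_injective
    simp [Localization.mk_zero]
  | insert a s ha ih =>
    intro hs h
    have hda := hdeg (a 0) (a 1) (n • 2) (by simpa using hs a (Finset.mem_insert_self _ _))
    have hs' : ∑ m ∈ s, monomial m (coeff m f) ∈ 𝒜 (n • 2) := Submodule.sum_mem _ fun m hm => by
      refine (mem_homogeneousSubmodule _ _).2 (isHomogeneous_monomial _ ?_)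
      rw [degree_eq, smul_eq_mul]; exact hs m (Finset.mem_insert_of_mem hm)
    have ea : monomial a (coeff a f) = coeff a f • monomial (ex (a 0) (a 1)) (1 : K) := by
      rw [← eq_ex, smul_monomial, smul_eq_mul, mul_one]
    have ha' : monomial a (coeff a f) ∈ 𝒜 (n • 2) := ea ▸ Submodule.smul_mem _ _ hda
    simp only [Finset.sum_insert ha]
    rw [mk_add hq n _ _ ha' hs']
    refine Z.add_mem ?_ (ih (fun m hm => hs m (Finset.mem_insert_of_mem hm)) hs')
    simp only [ea]
    rw [mk_smul hq n _ _ hda]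
    exact hsmul _ _ (hmono n _ _ hda (hs a (Finset.mem_insert_self _ _)))

end Groth.Misc5Conic
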